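import Groth.Agent.H70.RegLocus.Open
import Groth.Agent.H44.FiniteSections

/-!
# The locally Noetherian case (helper70)
-/

set_option autoImplicit false
set_option linter.style.haveILetI false

open CategoryTheory Limits AlgebraicGeometry TopologicalSpace Opposite
open RingTheory.Sequence

namespace Groth.Agent.H70.RegLocus

universe u

variable {X Y : Scheme.{u}}

/-- a morphism locally of finite type to a locally Noetherian scheme is locally of finite
presentation -/
theorem locallyOfFinitePresentation_of_isLocallyNoetherian (f : X ⟶ Y)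
    [LocallyOfFiniteType f] [IsLocallyNoetherian Y] : LocallyOfFinitePresentation f := by
  rw [HasRingHomProperty.iff_appLE (P := @LocallyOfFinitePresentation)]
  intro U V e
  haveI : IsNoetherianRing Γ(Y, U.1) := IsLocallyNoetherian.component_noetherian U
  exact RingHom.FinitePresentation.of_finiteType.mp (f.finiteType_appLE U.2 V.2 e)

/-- on a locally Noetherian scheme, quasi-coherent of finite type implies finitely presented -/
theorem isFinitePresentation_of_isFiniteType [IsLocallyNoetherian X] (F : X.Modules)
    [F.IsQuasicoherent] [SheafOfModules.IsFiniteType (R := X.ringCatSheaf) F] :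
    SheafOfModules.IsFinitePresentation (R := X.ringCatSheaf) F := by
  choose U V hU hV hxU hUV using Groth.Agent.H71.QCoh.exists_affine_pair (𝟙 X)
  refine Groth.Agent.H71.QCoh.isFinitePresentation_of_finitePresentation_sections F U
    ?_ hU (fun x => ?_)
  · refine IsOpenCover.mk (eq_top_iff.mpr ?_)
    intro x _
    exact TopologicalSpace.Opens.mem_iSup.mpr ⟨x, hxU x⟩
  · haveI : IsNoetherianRing Γ(X, U x) :=
      IsLocallyNoetherian.component_noetherian ⟨U x, hU x⟩
    haveI : Module.Finite Γ(X, U x) Γ(F, U x) :=
      Groth.Agent.H44.finite_sections_of_isFiniteType F (hU x)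
    exact Module.finitePresentation_of_finite Γ(X, U x) Γ(F, U x)

theorem isOpen_setOf_fibre_weaklyRegular (Hd : Groth.Agent.H47.IntModel.Descent4848.{u})
    [IsLocallyNoetherian Y] (f : X ⟶ Y) [LocallyOfFiniteType f] (F : X.Modules)
    (hF : Coh.IsCoh F) (hflat : FlatMod.IsFlatOver f F) (n : ℕ) (g : Fin n → Γ(X, ⊤)) :
    IsOpen {x : X | IsWeaklyRegular (fibMod f F x)
      (List.ofFn fun i => (X.presheaf.germ ⊤ x trivial) (g i))} := by
  haveI := locallyOfFinitePresentation_of_isLocallyNoetherian f
  haveI : IsLocallyNoetherian X := LocallyOfFiniteType.isLocallyNoetherian f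
  haveI : F.IsQuasicoherent := hF.1
  haveI : SheafOfModules.IsFiniteType (R := X.ringCatSheaf) F := hF.2
  haveI := isFinitePresentation_of_isFiniteType F
  have h := isOpen_setOf_flat_and_weaklyRegular Hd f (List.ofFn g) F
  convert h using 1
  ext x
  simp only [Set.mem_setOf_eq, List.map_ofFn]
  constructor
  · intro hx
    exact ⟨hflat x, hx⟩
  · rintro ⟨-, hx⟩
    exact hx

end Groth.Agent.H70.RegLocus
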