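import Groth.Agent.H70.RegLocus.Stalk

/-!
# Openness of the locus where a sequence of functions is fibrewise weakly regular (helper70)
-/

set_option autoImplicit false
set_option linter.style.haveILetI false

open CategoryTheory Limits AlgebraicGeometry TopologicalSpace Opposite
open scoped Pointwise
open RingTheory.Sequence

namespace Groth.Agent.H70.RegLocus

universe u

variable {X Y : Scheme.{u}}

open Groth.Agent.H5.Stalk Groth.Agent.H30.SmulMod Groth.Agent.H70.StalkFibre
  Groth.Agent.H70.FlatLocusGeo

/-- the reduction step, at a point -/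
theorem pointwise_iff (f : X ⟶ Y) [LocallyOfFinitePresentation f] (F : X.Modules)
    [F.IsQuasicoherent] [SheafOfModules.IsFinitePresentation (R := X.ringCatSheaf) F]
    (r : Γ(X, ⊤)) (x : X) (rs : List (X.presheaf.stalk x)) :
    (FlatMod.IsFlatOverAt f F x ∧
        IsWeaklyRegular (fibMod f F x) ((X.presheaf.germ ⊤ x trivial) r :: rs)) ↔
      (FlatMod.IsFlatOverAt f F x ∧
        (Function.Injective ((TopCat.Presheaf.stalkFunctor Ab x).map
            (Scheme.Modules.Hom.mapPresheaf (smulMod F r))) ∧
          FlatMod.IsFlatOverAt f (cokernel (smulMod F r)) x) ∧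
        (FlatMod.IsFlatOverAt f (cokernel (smulMod F r)) x ∧
          IsWeaklyRegular (fibMod f (cokernel (smulMod F r)) x) rs)) := by
  have key2 : IsWeaklyRegular (QuotSMulTop ((X.presheaf.germ ⊤ x trivial) r) (fibMod f F x)) rs ↔
      IsWeaklyRegular (fibMod f (cokernel (smulMod F r)) x) rs :=
    (fibModCokernelEquiv f F r x).isWeaklyRegular_congr rs
  have key1 : FlatMod.IsFlatOverAt f F x →
      (IsSMulRegular (fibMod f F x) ((X.presheaf.germ ⊤ x trivial) r) ↔
        (Function.Injective ((TopCat.Presheaf.stalkFunctor Ab x).map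
            (Scheme.Modules.Hom.mapPresheaf (smulMod F r))) ∧
          FlatMod.IsFlatOverAt f (cokernel (smulMod F r)) x)) := by
    intro hF
    have h := injective_and_flat_iff f F F (smulMod F r) x hF
    rw [isSMulRegular_quotient_iff_mem_of_smul_mem]
    refine Iff.trans ?_ h.symm
    refine forall_congr' (fun m => ?_)
    rw [stalk_smulMod]
    exact Iff.rfl
  rw [isWeaklyRegular_cons_iff, key2]
  constructor
  · rintro ⟨hF, h1, h2⟩
    have := (key1 hF).mp h1
    exact ⟨hF, this, this.2, h2⟩
  · rintro ⟨hF, h1, -, h2⟩
    exact ⟨hF, (key1 hF).mpr h1, h2⟩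

/-- **Openness of the locus where `F` is flat over the base and a sequence of global functions is
weakly regular on the fibre module.** -/
theorem isOpen_setOf_flat_and_weaklyRegular (Hd : Groth.Agent.H47.IntModel.Descent4848.{u})
    (f : X ⟶ Y) [LocallyOfFinitePresentation f] (gs : List Γ(X, ⊤)) :
    ∀ (F : X.Modules) [F.IsQuasicoherent]
      [SheafOfModules.IsFinitePresentation (R := X.ringCatSheaf) F],
      IsOpen {x : X | FlatMod.IsFlatOverAt f F x ∧
        IsWeaklyRegular (fibMod f F x) (gs.map (fun r => (X.presheaf.germ ⊤ x trivial) r))} := by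
  induction gs with
  | nil =>
    intro F _ _
    have : {x : X | FlatMod.IsFlatOverAt f F x ∧
        IsWeaklyRegular (fibMod f F x)
          (([] : List Γ(X, ⊤)).map (fun r => (X.presheaf.germ ⊤ x trivial) r))} =
        {x : X | FlatMod.IsFlatOverAt f F x} := by
      ext x
      simp only [List.map_nil, Set.mem_setOf_eq, and_iff_left_iff_imp]
      intro _
      exact IsWeaklyRegular.nil _ _
    rw [this]
    exact isOpen_setOf_isFlatOverAt f F
  | cons r gs ih =>
    intro F _ _
    haveI := Groth.Agent.H12.QCohAbelian.isQuasicoherent_cokernel (smulMod F r)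
    have hfp := isFinitePresentation_cokernel (smulMod F r)
    have h1 : IsOpen {x : X | FlatMod.IsFlatOverAt f F x} := isOpen_setOf_isFlatOverAt f F
    have h2 := isOpen_setOf_injective_and_isFlatOverAt Hd f F F (smulMod F r)
    have h3 := @ih (cokernel (smulMod F r)) _ hfp
    have : {x : X | FlatMod.IsFlatOverAt f F x ∧
        IsWeaklyRegular (fibMod f F x)
          ((r :: gs).map (fun r => (X.presheaf.germ ⊤ x trivial) r))} =
        {x : X | FlatMod.IsFlatOverAt f F x} ∩
          ({x : X | Function.Injective ((TopCat.Presheaf.stalkFunctor Ab x).map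
              (Scheme.Modules.Hom.mapPresheaf (smulMod F r))) ∧
            FlatMod.IsFlatOverAt f (cokernel (smulMod F r)) x} ∩
           {x : X | FlatMod.IsFlatOverAt f (cokernel (smulMod F r)) x ∧
            IsWeaklyRegular (fibMod f (cokernel (smulMod F r)) x)
              (gs.map (fun r => (X.presheaf.germ ⊤ x trivial) r))}) := by
      ext x
      simp only [List.map_cons, Set.mem_setOf_eq, Set.mem_inter_iff]
      exact pointwise_iff f F r x _
    rw [this]
    exact h1.inter (h2.inter h3)

end Groth.Agent.H70.RegLocus
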