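import Groth.Agent.H70.StalkFibre.Main
import Groth.Agent.H70.RegFibre.Local
import Groth.Agent.H30.SmulMod

/-!
# Fibrewise regular sequences: the pointwise reduction step (helper70)
-/

set_option autoImplicit false
set_option linter.style.haveILetI false

open CategoryTheory Limits AlgebraicGeometry TopologicalSpace Opposite
open scoped Pointwise
open RingTheory.Sequence

namespace Groth.Agent.H70.RegLocus

universe u

variable {X Y : Scheme.{u}}

open Groth.Agent.H5.Stalk Groth.Agent.H30.SmulMod Groth.Agent.H70.StalkFibre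

/-- the ideal of `O_{X,x}` generated by the maximal ideal of `O_{Y,f x}` -/
noncomputable abbrev fibIdeal (f : X ⟶ Y) (x : X) : Ideal (X.presheaf.stalk x) :=
  Ideal.map (f.stalkMap x).hom (IsLocalRing.maximalIdeal (Y.presheaf.stalk (f x)))

/-- the fibre module `F_x / 𝔪_y F_x` -/
abbrev fibMod (f : X ⟶ Y) (F : X.Modules) (x : X) : Type u :=
  (F.presheaf.stalk x) ⧸
    (fibIdeal f x • (⊤ : Submodule (X.presheaf.stalk x) (F.presheaf.stalk x)))

/-- the stalk of multiplication by a global function is multiplication by its germ -/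
theorem stalk_smulMod (F : X.Modules) (r : Γ(X, ⊤)) (x : X) (m : F.presheaf.stalk x) :
    ((stalkFunctor x).map (smulMod F r)).hom m = (X.presheaf.germ ⊤ x trivial) r • m := by
  obtain ⟨U, hxU, m', rfl⟩ := TopCat.Presheaf.exists_germ_eq F.presheaf m
  rw [stalkFunctor_map_germ, smulMod_app_apply, germ_smul]
  congr 1
  exact TopCat.Presheaf.germ_res_apply X.presheaf (homOfLE (le_top : U ≤ ⊤)) x hxU r

/-- the stalk of the cokernel is the cokernel of the stalk map -/
noncomputable def stalkCokernelEquiv {F' F : X.Modules} [F'.IsQuasicoherent] [F.IsQuasicoherent]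
    (u : F' ⟶ F) (x : X) :
    (F.presheaf.stalk x ⧸ LinearMap.range ((stalkFunctor x).map u).hom) ≃ₗ[X.presheaf.stalk x]
      (cokernel u).presheaf.stalk x :=
  (Submodule.quotEquivOfEq _ _
    (LinearMap.exact_iff.mp (stalk_exact_cokernel u x).1).symm).trans
    (((stalkFunctor x).map (cokernel.π u)).hom.quotKerEquivOfSurjective
      (stalk_exact_cokernel u x).2)

/-- the fibre module of the cokernel of multiplication by `r` -/
noncomputable def fibModCokernelEquiv (f : X ⟶ Y) (F : X.Modules) [F.IsQuasicoherent]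
    (r : Γ(X, ⊤)) (x : X) :
    QuotSMulTop ((X.presheaf.germ ⊤ x trivial) r) (fibMod f F x) ≃ₗ[X.presheaf.stalk x]
      fibMod f (cokernel (smulMod F r)) x := by
  let su : F.presheaf.stalk x →ₗ[X.presheaf.stalk x] F.presheaf.stalk x :=
    ((stalkFunctor x).map (smulMod F r)).hom
  have hsu : ∀ m, su m = (X.presheaf.germ ⊤ x trivial) r • m := stalk_smulMod F r x
  have hrange : LinearMap.range su =
      ((X.presheaf.germ ⊤ x trivial) r • ⊤ :
        Submodule (X.presheaf.stalk x) (F.presheaf.stalk x)) := by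
    ext m
    constructor
    · rintro ⟨y, rfl⟩
      rw [hsu]
      exact Submodule.smul_mem_pointwise_smul y _ ⊤ Submodule.mem_top
    · intro hm
      obtain ⟨y, -, rfl⟩ := (Submodule.mem_smul_pointwise_iff_exists m _ ⊤).mp hm
      exact ⟨y, hsu y⟩
  let e0 : QuotSMulTop ((X.presheaf.germ ⊤ x trivial) r) (F.presheaf.stalk x) ≃ₗ[X.presheaf.stalk x]
      (cokernel (smulMod F r)).presheaf.stalk x :=
    (Submodule.quotEquivOfEq _ _ hrange.symm).trans (stalkCokernelEquiv (smulMod F r) x)
  have hmap : (fibIdeal f x • (⊤ : Submodule (X.presheaf.stalk x)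
      (QuotSMulTop ((X.presheaf.germ ⊤ x trivial) r) (F.presheaf.stalk x)))).map
        (e0 : _ →ₗ[X.presheaf.stalk x] _) =
      fibIdeal f x • (⊤ : Submodule (X.presheaf.stalk x)
        ((cokernel (smulMod F r)).presheaf.stalk x)) := by
    rw [Submodule.map_smul'', Submodule.map_top, LinearEquiv.range]
  exact (Groth.Agent.H70.RegFibre.quotSMulTopSwap (F.presheaf.stalk x) (fibIdeal f x)
    ((X.presheaf.germ ⊤ x trivial) r)).trans (Submodule.Quotient.equiv _ _ e0 hmap)

end Groth.Agent.H70.RegLocus
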